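import Mathlib

/-!
Tools for degree bounds on multiply transitive groups (Manning-type arguments):
Jordan-style finishes from a short element, and the structure of a Sylow subgroup of a
pointwise stabiliser in degree `k * p + r`, `k < p`.
-/

set_option autoImplicit false

open MulAction Equiv Equiv.Perm

namespace Cfsg.Agent.Manning

variable {α : Type*} [Fintype α] [DecidableEq α] {G : Subgroup (Perm α)}

theorem trans_le {m n : ℕ} (hG : IsMultiplyPretransitive G α m) (hnm : n ≤ m)
    (hm : m ≤ Fintype.card α) : IsMultiplyPretransitive G α n := by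
  haveI := hG
  refine isMultiplyPretransitive_of_le (n := m) hnm ?_
  rw [Nat.card_eq_fintype_card]; exact hm

theorem exists_fix_move {m : ℕ} (hG : IsMultiplyPretransitive G α m) (hm : m ≤ Fintype.card α)
    (s : Finset α) (hs : s.card + 1 ≤ m) {x y : α} (hx : x ∉ s) (hy : y ∉ s) :
    ∃ h ∈ G, (∀ a ∈ s, h a = a) ∧ h x = y := by
  haveI := hG
  have h1 := SubMulAction.ofFixingSubgroup.isMultiplyPretransitive' (G := G) (α := α) (m := 1)
    (n := m) (s : Set α) (by rw [Set.ncard_coe_finset]; exact hs)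
    (by rw [ENat.card_eq_coe_fintype_card]; exact_mod_cast hm)
  rw [is_one_pretransitive_iff] at h1
  obtain ⟨g, hg⟩ := exists_smul_eq (fixingSubgroup G (s : Set α))
    (⟨x, by simpa [SubMulAction.mem_ofFixingSubgroup_iff] using hx⟩ :
      SubMulAction.ofFixingSubgroup G (s : Set α))
    ⟨y, by simpa [SubMulAction.mem_ofFixingSubgroup_iff] using hy⟩
  refine ⟨g.1.1, g.1.2, fun a ha => ?_, congrArg Subtype.val hg⟩
  exact (mem_fixingSubgroup_iff G).1 g.2 a (Finset.mem_coe.2 ha)

theorem exists_ext {r : ℕ} (hG : IsMultiplyPretransitive G α r) (D : Finset α) (hD : D.card = r)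
    (σ : Perm {x // x ∈ D}) : ∃ g ∈ G, ∀ a : {x // x ∈ D}, g a.1 = (σ a).1 := by
  haveI := hG
  let e : Fin r ≃ {x // x ∈ D} := (D.equivFinOfCardEq hD).symm
  let x : Fin r ↪ α := e.toEmbedding.trans (Function.Embedding.subtype _)
  let y : Fin r ↪ α := (e.trans σ).toEmbedding.trans (Function.Embedding.subtype _)
  obtain ⟨g, hg⟩ := exists_smul_eq G x y
  refine ⟨g.1, g.2, fun a => ?_⟩
  have := DFunLike.congr_fun hg (e.symm a)
  simpa [x, y, Function.Embedding.smul_apply, Subgroup.smul_def] using this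

theorem primitive {m : ℕ} (hG : IsMultiplyPretransitive G α m) (h2 : 2 ≤ m)
    (hm : m ≤ Fintype.card α) : IsPreprimitive G α :=
  isPreprimitive_of_is_two_pretransitive (trans_le hG h2 hm)

/-- An involution moving exactly four points in a 4-transitive group. -/
theorem of_double_swap (h4 : IsMultiplyPretransitive G α 4) (hn : 5 ≤ Fintype.card α)
    {g : Perm α} (hg : g ∈ G) (hg2 : g * g = 1) (hs : g.support.card = 4) :
    alternatingGroup α ≤ G := by
  have inv : ∀ x, g (g x) = x := fun x => by rw [← Perm.mul_apply, hg2, Perm.one_apply]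
  obtain ⟨a, ha⟩ : g.support.Nonempty := Finset.card_pos.1 (by omega)
  have hab : g a ≠ a := Perm.mem_support.1 ha
  set b := g a with hb
  have hbs : b ∈ g.support := Perm.apply_mem_support.2 ha
  obtain ⟨c, hc, hcab⟩ : ∃ c ∈ g.support, c ∉ ({a, b} : Finset α) :=
    Finset.exists_mem_notMem_of_card_lt_card
      (lt_of_le_of_lt Finset.card_le_two (by omega))
  simp only [Finset.mem_insert, Finset.mem_singleton, not_or] at hcab
  set d := g c with hd
  have hcd : d ≠ c := Perm.mem_support.1 hc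
  have hda : d ≠ a := fun h => hcab.2 (by rw [← inv c, ← hd, h])
  have hdb : d ≠ b := fun h => hcab.1 (g.injective (h.trans hb))
  have hds : d ∈ g.support := Perm.apply_mem_support.2 hc
  have hS : ({a, b, c, d} : Finset α) = g.support := by
    apply Finset.eq_of_subset_of_card_le
    · simp [Finset.insert_subset_iff, ha, hbs, hc, hds]
    · rw [hs, Finset.card_insert_of_notMem (by simp [hab.symm, Ne.symm hcab.1, hda.symm]),
        Finset.card_insert_of_notMem (by simp [Ne.symm hcab.2, hdb.symm]),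
        Finset.card_pair hcd.symm]
  obtain ⟨e, he⟩ : ∃ e, e ∉ ({a, b, c, d} : Finset α) := by
    by_contra h
    push Not at h
    have : (Finset.univ : Finset α) ⊆ {a, b, c, d} := fun x _ => h x
    have := Finset.card_le_card this
    rw [hS, hs, Finset.card_univ] at this
    omega
  have hge : g e = e := by rw [← Perm.notMem_support, ← hS]; exact he
  simp only [Finset.mem_insert, Finset.mem_singleton, not_or] at he
  obtain ⟨h, hhG, hfix, hhd⟩ := exists_fix_move h4 (by omega) {a, b, c}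
    (by
      have := Finset.card_le_three (a := a) (b := b) (c := c)
      omega)
    (x := d) (y := e) (by simp [hda, hdb, hcd]) (by simp [he.1, he.2.1, he.2.2.1])
  have fa : h a = a := hfix a (by simp)
  have fb : h b = b := hfix b (by simp)
  have fc : h c = c := hfix c (by simp)
  have ia : h⁻¹ a = a := by rw [Perm.inv_eq_iff_eq]; exact fa.symm
  have ib : h⁻¹ b = b := by rw [Perm.inv_eq_iff_eq]; exact fb.symm
  have ic : h⁻¹ c = c := by rw [Perm.inv_eq_iff_eq]; exact fc.symm
  have ie : h⁻¹ e = d := by rw [Perm.inv_eq_iff_eq]; exact hhd.symm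
  have gd : g d = c := inv c
  have gb : g b = a := inv a
  set w := g * (h * g * h⁻¹) with hw
  have wa : w a = a := by simp only [hw, Perm.mul_apply, ia, ← hb, fb, gb]
  have wb : w b = b := by simp only [hw, Perm.mul_apply, ib, gb, fa, ← hb]
  have wc : w c = e := by simp only [hw, Perm.mul_apply, ic, ← hd, hhd, hge]
  have we : w e = d := by simp only [hw, Perm.mul_apply, ie, gd, fc, ← hd]
  have wd : w d ≠ d := fun h' => he.2.2.2 (w.injective (h'.trans we.symm)).symm
  have hsub : w.support = {c, d, e} := by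
    ext x
    simp only [Perm.mem_support, Finset.mem_insert, Finset.mem_singleton]
    constructor
    · intro hx
      by_contra hne
      simp only [not_or] at hne
      by_cases hxa : x = a
      · exact hx (hxa ▸ wa)
      by_cases hxb : x = b
      · exact hx (hxb ▸ wb)
      have hy : h⁻¹ x ∉ g.support := by
        rw [← hS]
        simp only [Finset.mem_insert, Finset.mem_singleton, not_or]
        refine ⟨?_, ?_, ?_, ?_⟩
        · rw [Perm.inv_eq_iff_eq, fa]; exact hxa
        · rw [Perm.inv_eq_iff_eq, fb]; exact hxb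
        · rw [Perm.inv_eq_iff_eq, fc]; exact hne.1
        · rw [Perm.inv_eq_iff_eq, hhd]; exact hne.2.2
      have hx' : x ∉ g.support := by
        rw [← hS]; simp [hxa, hxb, hne.1, hne.2.1]
      apply hx
      simp only [hw, Perm.mul_apply, Perm.notMem_support.1 hy]
      rw [← Perm.mul_apply h h⁻¹, mul_inv_cancel, Perm.one_apply]
      exact Perm.notMem_support.1 hx'
    · rintro (rfl | rfl | rfl)
      · rw [wc]; exact he.2.2.1
      · exact wd
      · rw [we]; exact Ne.symm he.2.2.2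
  have h3 : w.IsThreeCycle := by
    rw [← card_support_eq_three_iff, hsub, Finset.card_eq_three]
    exact ⟨c, d, e, hcd.symm, Ne.symm he.2.2.1, Ne.symm he.2.2.2, rfl⟩
  exact alternatingGroup_le_of_isPreprimitive_of_isThreeCycle_mem
    (primitive h4 (by norm_num) (by omega)) h3
    (G.mul_mem hg (G.mul_mem (G.mul_mem hhG hg) (G.inv_mem hhG)))

/-- Jordan: a primitive group with a `p`-cycle is `(n - p + 1)`-transitive. -/
theorem trans_of_cycle (hprim : IsPreprimitive G α) {p : ℕ} (hp : p.Prime) {g : Perm α}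
    (hg : g ∈ G) (hgc : g.IsCycle) (hgp : g.support.card = p) (hn : p + 1 ≤ Fintype.card α) :
    IsMultiplyPretransitive G α (Fintype.card α - p + 1) := by
  classical
  obtain ⟨m, hm⟩ := Nat.exists_eq_add_of_le hn
  rw [show Fintype.card α - p + 1 = m + 2 by omega]
  have hsn : ((g.support : Set α)ᶜ).ncard = m + 1 := by
    rw [← Finset.coe_compl, Set.ncard_coe_finset, Finset.card_compl, hgp]
    omega
  have h2 := hp.two_le
  haveI := hprim.isMultiplyPreprimitive (s := ((g.support : Set α)ᶜ)) hsn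
    (by rw [Nat.card_eq_fintype_card]; omega) (by
      haveI := isPretransitive_of_isCycle_mem hgc hg
      apply IsPreprimitive.of_prime_card
      convert! hp
      rw [Nat.card_eq_fintype_card, Fintype.card_subtype, ← hgp]
      apply congr_arg
      ext x
      simp [SubMulAction.mem_ofFixingSubgroup_iff])
  exact IsMultiplyPreprimitive.isMultiplyPretransitive ..

/-- The data attached to a Sylow `p`-subgroup of the stabiliser of `r` points. -/
structure Cfg (G : Subgroup (Perm α)) (p k r : ℕ) where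
  D : Finset α
  P : Subgroup (Perm α)
  hD : D.card = r
  hn : Fintype.card α = k * p + r
  hp : p.Prime
  le : P ≤ G
  fix : ∀ y ∈ P, ∀ a ∈ D, y a = a
  move : ∀ a ∉ D, ∃ y ∈ P, y a ≠ a
  orb_card : ∀ a ∉ D, (orbit P a).ncard = p
  gen : ∀ a, ∀ y ∈ P, y a ≠ a → ∀ z ∈ P, ∃ i : ℕ, z a = (y ^ i) a
  comm : ∀ y ∈ P, ∀ z ∈ P, y * z = z * y
  pow : ∀ y ∈ P, y ^ p = 1
  ext : ∀ σ : Perm {x // x ∈ D},
    ∃ g ∈ G, g ∈ Subgroup.normalizer (P : Set (Perm α)) ∧
      ∀ a : {x // x ∈ D}, g a.1 = (σ a).1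

theorem exists_cfg {p k r : ℕ} (hp : p.Prime) (hn : Fintype.card α = k * p + r) (hk : 1 ≤ k)
    (hkp : k < p) (hG : IsMultiplyPretransitive G α (r + 1)) : Nonempty (Cfg G p k r) := by
  classical
  haveI := Fact.mk hp
  have hkp0 : 1 ≤ k * p := Nat.mul_pos hk hp.pos
  have hr1 : r + 1 ≤ Fintype.card α := by omega
  obtain ⟨D, -, hD⟩ := Finset.exists_subset_card_eq (s := (Finset.univ : Finset α)) (n := r)
    (by rw [Finset.card_univ]; omega)
  let H : Subgroup (Perm α) := G ⊓ fixingSubgroup (Perm α) (D : Set α)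
  have hH : ∀ g, g ∈ H ↔ g ∈ G ∧ ∀ a ∈ D, g a = a := fun g => by
    simp [H, mem_fixingSubgroup_iff, Perm.smul_def]
  obtain ⟨P₀⟩ : Nonempty (Sylow p H) := inferInstance
  let P : Subgroup (Perm α) := (P₀ : Subgroup H).map H.subtype
  have hPH : P ≤ H := Subgroup.map_subtype_le _
  have hPp : IsPGroup p P := P₀.isPGroup'.map _
  have fix : ∀ y ∈ P, ∀ a ∈ D, y a = a := fun y hy => ((hH y).1 (hPH hy)).2
  have out : ∀ y ∈ P, ∀ a ∉ D, y a ∉ D := by
    intro y hy a ha h
    exact ha ((y.injective (fix y hy _ h)).symm ▸ h)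
  have orbsub : ∀ a ∉ D, orbit P a ⊆ ((Dᶜ : Finset α) : Set α) := by
    rintro a ha _ ⟨y, rfl⟩
    simpa [Subgroup.smul_def] using out y.1 y.2 a ha
  have move : ∀ a ∉ D, ∃ y ∈ P, y a ≠ a := by
    intro a ha
    by_contra h
    push Not at h
    have hle : (P₀ : Subgroup H) ≤ stabilizer H a := by
      intro z hz
      rw [mem_stabilizer_iff, Subgroup.smul_def, Perm.smul_def]
      exact h z.1 ⟨z, hz, rfl⟩
    have horb : orbit H a = ((Dᶜ : Finset α) : Set α) := by
      ext b
      simp only [mem_orbit_iff, Finset.coe_compl, Set.mem_compl_iff, Finset.mem_coe]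
      constructor
      · rintro ⟨z, rfl⟩ hb
        rw [Subgroup.smul_def, Perm.smul_def] at hb
        exact ha ((z.1.injective (((hH _).1 z.2).2 _ hb)).symm ▸ hb)
      · intro hb
        obtain ⟨g, hg, hgf, hga⟩ := exists_fix_move hG hr1 D (by omega) ha hb
        exact ⟨⟨g, (hH g).2 ⟨hg, hgf⟩⟩, hga⟩
    have h1 : (stabilizer H a).index = k * p := by
      rw [index_stabilizer, horb, Set.ncard_coe_finset, Finset.card_compl, hD, hn]
      omega
    have h2 := Subgroup.index_dvd_of_le hle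
    rw [h1] at h2
    exact P₀.not_dvd_index ((Dvd.intro_left k rfl).trans h2)
  have two_le : ∀ (Q : Subgroup (Perm α)), IsPGroup p Q → ∀ a, (∃ y ∈ Q, y a ≠ a) →
      ∃ j, 1 ≤ j ∧ (orbit Q a).ncard = p ^ j := by
    rintro Q hQ a ⟨y, hy, hya⟩
    obtain ⟨j, hj⟩ := hQ.card_orbit a
    rw [Nat.card_coe_set_eq] at hj
    refine ⟨j, ?_, hj⟩
    rcases Nat.eq_zero_or_pos j with h0 | h0
    · rw [h0, pow_zero, Set.ncard_eq_one] at hj
      obtain ⟨b, hb⟩ := hj
      have h1 : a ∈ orbit Q a := mem_orbit_self a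
      have h2 : y a ∈ orbit Q a := ⟨⟨y, hy⟩, rfl⟩
      rw [hb, Set.mem_singleton_iff] at h1 h2
      exact absurd (h2.trans h1.symm) hya
    · exact h0
  have orb_card : ∀ a ∉ D, (orbit P a).ncard = p := by
    intro a ha
    obtain ⟨j, hj, hj'⟩ := two_le P hPp a (move a ha)
    have hle := Set.ncard_le_ncard (orbsub a ha) (Finset.finite_toSet _)
    rw [hj', Set.ncard_coe_finset, Finset.card_compl, hD] at hle
    have hlt : p ^ j < p ^ 2 := by
      have : k * p < p * p := Nat.mul_lt_mul_of_pos_right hkp hp.pos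
      rw [pow_two]; omega
    have := (Nat.pow_lt_pow_iff_right hp.one_lt).1 hlt
    obtain rfl : j = 1 := by omega
    simpa using hj'
  have notD : ∀ a, ∀ y ∈ P, y a ≠ a → a ∉ D := fun a y hy h ha => h (fix y hy a ha)
  have gen : ∀ a, ∀ y ∈ P, y a ≠ a → ∀ z ∈ P, ∃ i : ℕ, z a = (y ^ i) a := by
    intro a y hy hya z hz
    have hle : Subgroup.zpowers y ≤ P := Subgroup.zpowers_le.2 hy
    obtain ⟨j, hj, hj'⟩ := two_le (Subgroup.zpowers y) (hPp.to_le hle) a
      ⟨y, Subgroup.mem_zpowers y, hya⟩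
    have hsub : orbit (Subgroup.zpowers y) a ⊆ orbit P a := by
      rintro _ ⟨w, rfl⟩
      exact ⟨⟨w.1, hle w.2⟩, rfl⟩
    have heq := Set.eq_of_subset_of_ncard_le hsub
      (by rw [orb_card a (notD a y hy hya), hj']; exact Nat.le_self_pow (by omega) p)
      (Set.toFinite _)
    have : z a ∈ orbit (Subgroup.zpowers y) a := heq ▸ ⟨⟨z, hz⟩, rfl⟩
    obtain ⟨w, hw⟩ := this
    obtain ⟨i, hi⟩ := mem_powers_iff_mem_zpowers.2 w.2
    exact ⟨i, by rw [← hw]; simp only at hi ⊢; rw [Subgroup.smul_def, Perm.smul_def, hi]⟩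
  have normal : ∀ a ∉ D, (stabilizer P a).Normal ∧ (stabilizer P a).index = p := by
    intro a ha
    have hi : (stabilizer P a).index = p := by rw [index_stabilizer, orb_card a ha]
    refine ⟨Subgroup.normal_of_index_eq_minFac_card ?_, hi⟩
    obtain ⟨N, hN⟩ := IsPGroup.iff_card.1 hPp
    have hN0 : N ≠ 0 := by
      rintro rfl
      have hd := Subgroup.index_dvd_card (stabilizer P a)
      rw [hi, hN, pow_zero, Nat.dvd_one] at hd
      exact hp.ne_one hd
    rw [hi, hN, hp.pow_minFac hN0]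
  have comm : ∀ y ∈ P, ∀ z ∈ P, y * z = z * y := by
    intro y hy z hz
    refine Equiv.ext fun a => ?_
    by_cases ha : a ∈ D
    · simp [fix y hy a ha, fix z hz a ha]
    obtain ⟨x, hx, hxa⟩ := move a ha
    obtain ⟨i, hi⟩ := gen a x hx hxa y hy
    obtain ⟨j, hj⟩ := gen a x hx hxa z hz
    have key : ∀ u ∈ P, ∀ m : ℕ, u a = (x ^ m) a → ∀ w ∈ P, u (w a) = (x ^ m) (w a) := by
      intro u hu m hm w hw
      haveI := (normal a ha).1
      let s : P := (⟨x, hx⟩ ^ m)⁻¹ * ⟨u, hu⟩
      have hs : s ∈ stabilizer P a := by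
        rw [mem_stabilizer_iff, Subgroup.smul_def, Perm.smul_def]
        simp [s, hm]
      have := ‹(stabilizer P a).Normal›.conj_mem s hs (⟨w, hw⟩)⁻¹
      rw [mem_stabilizer_iff, Subgroup.smul_def, Perm.smul_def] at this
      simp only [s, inv_inv, Subgroup.coe_mul, Subgroup.coe_inv, Subgroup.coe_pow,
        Perm.mul_apply] at this
      rwa [Perm.inv_eq_iff_eq, Perm.inv_eq_iff_eq] at this
    rw [Perm.mul_apply, Perm.mul_apply, hj, key y hy i hi _ (P.pow_mem hx j), hi,
      key z hz j hj _ (P.pow_mem hx i), ← Perm.mul_apply, ← Perm.mul_apply, ← pow_add,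
      ← pow_add, add_comm]
  have pow : ∀ y ∈ P, y ^ p = 1 := by
    intro y hy
    refine Equiv.ext fun a => ?_
    by_cases ha : a ∈ D
    · exact fix _ (P.pow_mem hy p) a ha
    haveI := (normal a ha).1
    have := (stabilizer P a).pow_index_mem (⟨y, hy⟩ : P)
    rw [(normal a ha).2, mem_stabilizer_iff, Subgroup.smul_def] at this
    simpa using this
  refine ⟨⟨D, P, hD, hn, hp, hPH.trans inf_le_left, fix, move, orb_card, gen, comm, pow,
    fun σ => ?_⟩⟩
  obtain ⟨g, hg, hgσ⟩ := exists_ext (trans_le hG (Nat.le_succ r) hr1) D hD σ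
  have hconj : ∀ z ∈ H, g * z * g⁻¹ ∈ H := by
    intro z hz
    rw [hH] at hz ⊢
    refine ⟨G.mul_mem (G.mul_mem hg hz.1) (G.inv_mem hg), fun a ha => ?_⟩
    have h1 : g (σ⁻¹ ⟨a, ha⟩).1 = a := by simp [hgσ]
    have h2 : g⁻¹ a = (σ⁻¹ ⟨a, ha⟩).1 := Perm.inv_eq_iff_eq.2 h1.symm
    rw [Perm.mul_apply, Perm.mul_apply, h2, hz.2 _ (σ⁻¹ ⟨a, ha⟩).2, h1]
  let Q : Subgroup (Perm α) := P.map (MulAut.conj g).toMonoidHom
  have hQH : Q ≤ H := by
    rintro _ ⟨z, hz, rfl⟩
    exact hconj z (hPH hz)
  have hcard : Nat.card (Q.subgroupOf H) = p ^ (Nat.card H).factorization p := by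
    rw [Nat.card_congr (Subgroup.subgroupOfEquivOfLe hQH).toEquiv,
      Subgroup.card_map_of_injective (MulAut.conj g).injective,
      Subgroup.card_map_of_injective H.subtype_injective, P₀.card_eq_multiplicity]
  obtain ⟨h, hh⟩ := exists_smul_eq H (Sylow.ofCard (Q.subgroupOf H) hcard) P₀
  refine ⟨h.1 * g, G.mul_mem ((hH _).1 h.2).1 hg, ?_, fun a => ?_⟩
  · apply Subgroup.mem_normalizer_fintype
    intro z hz
    have hgz : g * z * g⁻¹ ∈ Q := ⟨z, hz, rfl⟩
    have : MulAut.conj h (⟨g * z * g⁻¹, hQH hgz⟩ : H) ∈ (P₀ : Subgroup H) := by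
      rw [← hh, Sylow.coe_subgroup_smul]
      exact Subgroup.smul_mem_pointwise_smul _ (MulAut.conj h) _ (Subgroup.mem_subgroupOf.2 hgz)
    refine ⟨_, this, ?_⟩
    simp only [Subgroup.coe_subtype, MulAut.conj_apply, Subgroup.coe_mul, Subgroup.coe_inv]
    group
  · rw [Perm.mul_apply, hgσ, ((hH _).1 h.2).2 _ (σ a).2]

end Cfsg.Agent.Manning
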