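import Cfsg.Agent.Manning.Local
import Cfsg.Agent.SporadicA.SharplyTransitive

/-!
The degree bound: an `(r + 1)`-transitive group of degree `k * p + r` contains the
alternating group.
-/

set_option autoImplicit false

open MulAction Equiv Equiv.Perm commutatorElement

namespace Cfsg.Agent.Manning

variable {α : Type*} [Fintype α] [DecidableEq α] {G : Subgroup (Perm α)} {p k r : ℕ}

theorem core_big (hp : p.Prime) (hn : Fintype.card α = k * p + r) (hk : 1 ≤ k) (hkp : k < p)
    (hkr : k < r) (h5 : 5 ≤ r) (hG : IsMultiplyPretransitive G α (r + 1)) :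
    alternatingGroup α ≤ G := by
  classical
  obtain ⟨c⟩ := exists_cfg hp hn hk hkp hG
  have hkp1 : 1 ≤ k * p := Nat.mul_pos hk hp.pos
  have hDc : 5 ≤ Nat.card {x // x ∈ c.D} := by
    rw [Nat.card_eq_fintype_card, Fintype.card_coe, c.hD]; exact h5
  haveI : (c.L.map c.rho).Normal := c.L_normal.map c.rho c.rho_surjective
  have hA : alternatingGroup {x // x ∈ c.D} ≤ c.L.map c.rho := by
    refine alternatingGroup_le_of_normal hDc ?_
    rw [Subgroup.nontrivial_iff_ne_bot]
    intro hb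
    obtain ⟨l, hl, hl1⟩ := c.exists_L_ne_one hk hkr
    apply hl1
    rw [← Subgroup.mem_bot, ← hb]
    exact Subgroup.mem_map_of_mem _ hl
  have hAC : alternatingGroup {x // x ∈ c.D} ≤ c.C.map c.rho := by
    rw [← commutator_alternatingGroup_eq_self hDc]
    refine le_trans (Subgroup.commutator_mono hA hA) ?_
    rw [← Subgroup.map_commutator]
    exact Subgroup.map_mono c.commutator_L_le
  have hAK : alternatingGroup {x // x ∈ c.D} ≤ c.K.map c.rho := by
    rw [← commutator_alternatingGroup_eq_self hDc]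
    refine le_trans (Subgroup.commutator_mono hAC hAC) ?_
    rw [← Subgroup.map_commutator]
    exact Subgroup.map_mono c.commutator_C_le
  obtain ⟨s, -, hs⟩ := Finset.exists_subset_card_eq (s := (Finset.univ : Finset {x // x ∈ c.D}))
    (n := 3) (by rw [Finset.card_univ, Fintype.card_coe, c.hD]; omega)
  obtain ⟨a, b, d, hab, had, hbd, -⟩ := Finset.card_eq_three.1 hs
  have h3 := isThreeCycle_swap_mul_swap_same hab had hbd
  obtain ⟨g, hgK, hg⟩ := hAK h3.mem_alternatingGroup
  have hgs : (g : Perm α) = Perm.ofSubtype (swap a b * swap a d) := by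
    refine Equiv.ext fun x => ?_
    by_cases hx : x ∈ c.D
    · rw [Perm.ofSubtype_apply_of_mem _ hx, ← hg, c.rho_apply]
    · rw [Perm.ofSubtype_apply_of_not_mem _ hx, hgK x hx]
  refine alternatingGroup_le_of_isPreprimitive_of_isThreeCycle_mem
    (primitive hG (by omega) (by omega)) (g := (g : Perm α)) ?_ (c.N_le g.2)
  unfold IsThreeCycle at h3 ⊢
  rw [hgs, cycleType_ofSubtype]
  exact h3

theorem three_fact : ∀ i : Perm (Fin 3), i ≠ 1 →
    ∃ s : Perm (Fin 3), ⁅s, i⁆ ≠ 1 ∧ ⁅s, i⁆ ^ 3 = 1 := by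
  decide +kernel

theorem four_fact : ∀ i : Perm (Fin 4), i ≠ 1 →
    ∃ s s' : Perm (Fin 4), ⁅s', ⁅s, i⁆⁆ * ⁅s', ⁅s, i⁆⁆ = 1 ∧
      ∀ x, ⁅s', ⁅s, i⁆⁆ x ≠ x := by
  decide +kernel

theorem pow_of_inv {M : Type*} [Monoid M] {x : M} (h : x * x = 1) {m : ℕ} (hm : Odd m) :
    x ^ m = x := by
  obtain ⟨j, rfl⟩ := hm
  rw [pow_succ, pow_mul, pow_two, h, one_pow, one_mul]

theorem core_scalar (c : Cfg G p k r) (hk : 1 ≤ k) (hkr : k < r)
    (hr : r = 4 ∧ p ≠ 2 ∨ r = 3 ∧ p ≠ 3)
    (hbig : ∀ y ∈ c.P, y ≠ 1 → k * p < 2 * y.support.card)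
    (hG : IsMultiplyPretransitive G α (r + 1)) : alternatingGroup α ≤ G := by
  classical
  have hkp1 : 1 ≤ k * p := Nat.mul_pos hk c.hp.pos
  have hn := c.hn
  obtain ⟨l, hl, hl1⟩ := c.exists_L_ne_one hk hkr
  let E : Perm {x // x ∈ c.D} ≃* Perm (Fin r) := (c.D.equivFinOfCardEq c.hD).permCongrHom
  have hi : E (c.rho l) ≠ 1 := fun h => hl1 (E.injective (by rw [h, map_one]))
  have hsupp : ∀ {g : c.N}, g ∈ c.K → (g : Perm α).support ⊆ c.D := by
    intro g hg x hx
    by_contra hxD
    exact Perm.mem_support.1 hx (hg x hxD)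
  have lift : ∀ (s : Perm (Fin r)), ∀ m ∈ c.L, ∃ n : c.N, ⁅n, m⁆ ∈ c.C ∧
      E (c.rho ⁅n, m⁆) = ⁅s, E (c.rho m)⁆ := by
    intro s m hm
    obtain ⟨n, hn'⟩ := c.rho_surjective (E.symm s)
    exact ⟨n, c.scalar hbig hm, by
      rw [map_commutatorElement, map_commutatorElement, hn', MulEquiv.apply_symm_apply]⟩
  rcases hr with ⟨rfl, hp⟩ | ⟨rfl, hp⟩
  · obtain ⟨s, s', h2, hfix⟩ := four_fact _ hi
    obtain ⟨n, hnC, hnE⟩ := lift s l hl
    obtain ⟨n', hnC', hnE'⟩ := lift s' _ (c.mem_C.1 hnC).1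
    rw [hnE] at hnE'
    set g := ⁅n', ⁅n, l⁆⁆ ^ p with hg
    have hgK : g ∈ c.K := c.pow_mem_K hnC'
    have hodd : Odd p := c.hp.odd_of_ne_two hp
    have hrg : E (c.rho g) = ⁅s', ⁅s, E (c.rho l)⁆⁆ := by
      rw [hg, map_pow, map_pow, hnE', pow_of_inv h2 hodd]
    have hg2 : g * g = 1 := c.eq_one_of_K (c.K.mul_mem hgK hgK)
      (E.injective (by rw [map_mul, map_mul, hrg, h2, map_one]))
    refine of_double_swap (trans_le hG (by omega) (by omega)) (by omega) (c.N_le g.2)
      (congrArg Subtype.val hg2) ?_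
    refine Eq.trans (congrArg Finset.card ?_) c.hD
    refine Finset.Subset.antisymm (hsupp hgK) fun x hx => Perm.mem_support.2 fun hfx => ?_
    refine hfix ((c.D.equivFinOfCardEq c.hD) ⟨x, hx⟩) ?_
    rw [← hrg]
    simp only [E, Equiv.permCongrHom_coe, Equiv.permCongr_apply, Equiv.symm_apply_apply]
    congr 1
    exact Subtype.ext hfx
  · obtain ⟨s, hne, h3⟩ := three_fact _ hi
    obtain ⟨n, hnC, hnE⟩ := lift s l hl
    set g := ⁅n, l⁆ ^ p with hg
    have hgK : g ∈ c.K := c.pow_mem_K hnC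
    have hg3 : g ^ 3 = 1 := c.eq_one_of_K (c.K.pow_mem hgK 3) (E.injective (by
      rw [map_pow, map_pow, hg, map_pow, map_pow, hnE, ← pow_mul, mul_comm, pow_mul, h3,
        one_pow, map_one]))
    have hg1 : (g : Perm α) ≠ 1 := by
      intro h
      have h' : g = 1 := Subtype.ext h
      have hgp : ⁅s, E (c.rho l)⁆ ^ p = 1 := by
        rw [← hnE, ← map_pow, ← map_pow, ← hg, h', map_one, map_one]
      haveI := Fact.mk Nat.prime_three
      have ho : orderOf ⁅s, E (c.rho l)⁆ = 3 := orderOf_eq_prime h3 hne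
      have := orderOf_dvd_of_pow_eq_one hgp
      rw [ho, Nat.prime_dvd_prime_iff_eq Nat.prime_three c.hp] at this
      exact hp this.symm
    haveI := Fact.mk Nat.prime_three
    have ho : orderOf (g : Perm α) = 3 :=
      orderOf_eq_prime (by rw [← Subgroup.coe_pow, hg3, Subgroup.coe_one]) hg1
    have hle := Finset.card_le_card (hsupp hgK)
    rw [c.hD] at hle
    have hc : (g : Perm α).IsCycle :=
      isCycle_of_prime_order (by rw [ho]; exact Nat.prime_three) (by rw [ho]; omega)
    exact alternatingGroup_le_of_isPreprimitive_of_isThreeCycle_mem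
      (primitive hG (by omega) (by omega))
      (card_support_eq_three_iff.1 (hc.orderOf ▸ ho)) (c.N_le g.2)

theorem core_small (hp : p.Prime) (hn : Fintype.card α = k * p + r) (hk : 1 ≤ k) (hkp : k < p)
    (hkr : k < r) (hr : r = 4 ∧ p ≠ 2 ∨ r = 3 ∧ p ≠ 3)
    (hG : IsMultiplyPretransitive G α (r + 1)) : alternatingGroup α ≤ G := by
  classical
  haveI := Fact.mk hp
  obtain ⟨c⟩ := exists_cfg hp hn hk hkp hG
  have hk3 : k ≤ 3 := by omega
  have hge : ∀ y ∈ c.P, y ≠ 1 → p ≤ y.support.card := by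
    intro y hy hy1
    rw [← orderOf_eq_prime (c.pow y hy) hy1]
    have hc := (Equiv.Perm.support_eq_empty_iff (σ := y)).not.2 hy1
    obtain ⟨a, ha⟩ := Finset.nonempty_iff_ne_empty.2 hc
    rw [orderOf_eq_prime (c.pow y hy) hy1, ← c.orb_card a
      (c.not_mem_of_moved hy (Perm.mem_support.1 ha)), ← Set.ncard_coe_finset]
    refine Set.ncard_le_ncard ?_ (Finset.finite_toSet _)
    rintro _ ⟨z, rfl⟩
    change z.1 a ∈ ((y.support : Finset α) : Set α)
    rw [Finset.mem_coe, Perm.mem_support, ← Perm.mul_apply,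
      c.comm y hy z.1 z.2, Perm.mul_apply]
    exact fun h => Perm.mem_support.1 ha (z.1.injective h)
  by_cases hshort : 2 ≤ k ∧ ∃ y ∈ c.P, y ≠ 1 ∧ y.support.card < 2 * p
  · obtain ⟨hk2, y, hy, hy1, hlt⟩ := hshort
    have ho : orderOf y = p := orderOf_eq_prime (c.pow y hy) hy1
    have hyc : y.IsCycle := isCycle_of_prime_order (ho ▸ hp) (ho.symm ▸ hlt)
    have hcard : y.support.card = p := hyc.orderOf ▸ ho
    have hkp2 : 2 * p ≤ k * p := Nat.mul_le_mul_right p hk2
    have hp3 : 3 ≤ p := by omega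
    refine core_big (k := 1) (p := p) (r := Fintype.card α - p) hp (by omega) le_rfl hp.one_lt
      (by omega) (by omega) ?_
    exact trans_of_cycle (primitive hG (by omega) (by omega)) hp (c.le hy) hyc hcard (by omega)
  · refine core_scalar c hk hkr hr (fun y hy hy1 => ?_) hG
    have h1 := hge y hy hy1
    rcases Nat.lt_or_ge k 2 with hk2 | hk2
    · obtain rfl : k = 1 := by omega
      have := hp.two_le
      omega
    · have h2 : 2 * p ≤ y.support.card := by
        by_contra h
        exact hshort ⟨hk2, y, hy, hy1, by omega⟩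
      have : k * p ≤ 3 * p := Nat.mul_le_mul_right p hk3
      have := hp.two_le
      omega

theorem degree_nine (hn : Fintype.card α = 9) (hG : IsMultiplyPretransitive G α 4) :
    alternatingGroup α ≤ G := by
  classical
  by_cases hs : ∀ x : Fin 4 ↪ α, stabilizer G x = ⊥
  · have := Cfsg.Agent.SharplyTransitive.jordan4 hG hs (by omega)
    omega
  push Not at hs
  obtain ⟨x, hx⟩ := hs
  obtain ⟨g, hg, hg1⟩ := (Subgroup.ne_bot_iff_exists_ne_one.1 hx).elim
    (fun g h => (⟨g.1, g.2, fun e => h (Subtype.ext e)⟩ : ∃ g : G, g ∈ stabilizer G x ∧ g ≠ 1))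
  rw [mem_stabilizer_iff] at hg
  have hgne : (g : Perm α) ≠ 1 := fun h => hg1 (Subtype.ext h)
  set m := orderOf (g : Perm α) with hm
  have hm1 : m ≠ 1 := fun h => hgne (orderOf_eq_one_iff.1 h)
  obtain ⟨q, hq, hqm⟩ := Nat.exists_prime_and_dvd hm1
  set y := (g : Perm α) ^ (m / q) with hy
  have hoy : orderOf y = q := orderOf_pow_orderOf_div (orderOf_pos _).ne' hqm
  have hyG : y ∈ G := G.pow_mem g.2 _
  have hle : y.support.card ≤ 5 := by
    have : y.support ⊆ (Finset.univ.map x)ᶜ := by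
      intro a ha
      rw [Finset.mem_compl, Finset.mem_map]
      rintro ⟨i, -, rfl⟩
      refine Perm.mem_support.1 ha (Perm.pow_apply_eq_self_of_apply_eq_self ?_ _)
      exact DFunLike.congr_fun hg i
    refine (Finset.card_le_card this).trans ?_
    rw [Finset.card_compl, Finset.card_map, Finset.card_univ, Fintype.card_fin, hn]
  have hy1 : y ≠ 1 := fun h => hq.ne_one (by rw [← hoy, h, orderOf_one])
  have hprim := primitive hG (by norm_num) (by omega : 4 ≤ Fintype.card α)
  rcases eq_or_ne q 2 with rfl | hq2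
  · have hyy : y ^ 2 = 1 := hoy ▸ pow_orderOf_eq_one y
    obtain ⟨t, ht⟩ := two_dvd_card_support hyy
    have : y.support.card ≠ 0 := by
      rw [Ne, Finset.card_eq_zero, Perm.support_eq_empty_iff]; exact hy1
    rcases (show y.support.card = 2 ∨ y.support.card = 4 by omega) with h2 | h4
    · rw [subgroup_eq_top_of_isPreprimitive_of_isSwap_mem hprim y (card_support_eq_two.1 h2) hyG]
      exact le_top
    · exact of_double_swap hG (by omega) hyG (by rw [← pow_two]; exact hyy) h4
  have hq3 : 3 ≤ q := by have := hq.two_le; omega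
  have hyc : y.IsCycle := isCycle_of_prime_order (hoy ▸ hq) (by omega)
  have hcard : y.support.card = q := hyc.orderOf ▸ hoy
  rcases eq_or_ne q 3 with rfl | hq3'
  · exact alternatingGroup_le_of_isPreprimitive_of_isThreeCycle_mem hprim
      (card_support_eq_three_iff.1 hcard) hyG
  have h4 : q ≠ 4 := fun h => absurd (h ▸ hq) (by norm_num)
  obtain rfl : q = 5 := by omega
  have h5 := trans_of_cycle hprim hq hyG hyc hcard (by omega)
  exact core_small (k := 1) (p := 5) (r := 4) hq (by omega) le_rfl (by norm_num) (by norm_num)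
    (Or.inl ⟨rfl, by norm_num⟩) (by rwa [hn] at h5)

theorem bound (hp : p.Prime) (hn : Fintype.card α = k * p + r) (hk : 1 ≤ k) (hkp : k < p)
    (hkr : k < r) (hex : ¬ (k = 1 ∧ r = 2)) (hG : IsMultiplyPretransitive G α (r + 1)) :
    alternatingGroup α ≤ G := by
  have h2 := hp.two_le
  have hkp1 : 1 ≤ k * p := Nat.mul_pos hk hp.pos
  rcases eq_or_ne p 2 with rfl | hp2
  · obtain rfl : k = 1 := by omega
    refine _root_.IsMultiplyPretransitive.alternatingGroup_le α G (trans_le hG ?_ (by omega))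
    rw [Nat.card_eq_fintype_card, hn]
    omega
  rcases Nat.lt_or_ge r 5 with hr5 | hr5
  · have hr3 : 3 ≤ r := by
      by_contra h
      exact hex ⟨by omega, by omega⟩
    rcases (show r = 4 ∨ r = 3 by omega) with rfl | rfl
    · exact core_small hp hn hk hkp hkr (Or.inl ⟨rfl, hp2⟩) hG
    rcases eq_or_ne p 3 with rfl | hp3
    · rcases (show k = 1 ∨ k = 2 by omega) with rfl | rfl
      · refine _root_.IsMultiplyPretransitive.alternatingGroup_le α G (trans_le hG ?_ (by omega))
        rw [Nat.card_eq_fintype_card, hn]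
      · exact degree_nine hn hG
    · exact core_small hp hn hk hkp hkr (Or.inr ⟨rfl, hp3⟩) hG
  · exact core_big hp hn hk hkp hkr hr5 hG

end Cfsg.Agent.Manning
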