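import Cfsg.Agent.Manning.Basic

/-!
The normaliser of the Sylow subgroup of a point stabiliser, and the finish of the
degree bound.
-/

set_option autoImplicit false

open MulAction Equiv Equiv.Perm commutatorElement

namespace Cfsg.Agent.Manning

variable {α : Type*} [Fintype α] [DecidableEq α] {G : Subgroup (Perm α)} {p k r : ℕ}

namespace Cfg

variable (c : Cfg G p k r)

/-- The normaliser of `P` in `G`. -/
def N : Subgroup (Perm α) := G ⊓ Subgroup.normalizer (c.P : Set (Perm α))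

theorem N_le : c.N ≤ G := inf_le_left

theorem conj_mem {g : Perm α} (hg : g ∈ c.N) {y : Perm α} (hy : y ∈ c.P) :
    g * y * g⁻¹ ∈ c.P := ((Subgroup.mem_normalizer_iff).1 hg.2 y).1 hy

theorem conj_mem' {g : Perm α} (hg : g ∈ c.N) {y : Perm α} (hy : y ∈ c.P) :
    g⁻¹ * y * g ∈ c.P := by
  have := c.conj_mem (c.N.inv_mem hg) hy
  rwa [inv_inv] at this

theorem not_mem_of_moved {a : α} {y : Perm α} (hy : y ∈ c.P) (h : y a ≠ a) : a ∉ c.D :=
  fun ha => h (c.fix y hy a ha)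

theorem stable {g : Perm α} (hg : g ∈ c.N) (a : α) : g a ∈ c.D ↔ a ∈ c.D := by
  have key : ∀ h ∈ c.N, ∀ b ∈ c.D, h b ∈ c.D := by
    intro h hh b hb
    by_contra hne
    obtain ⟨y, hy, hy'⟩ := c.move _ hne
    have := c.fix _ (c.conj_mem' hh hy) b hb
    rw [Perm.mul_apply, Perm.mul_apply, Perm.inv_eq_iff_eq] at this
    exact hy' this
  refine ⟨fun h => ?_, key g hg a⟩
  have := key _ (c.N.inv_mem hg) _ h
  rwa [← Perm.mul_apply, inv_mul_cancel, Perm.one_apply] at this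

/-- The action of the normaliser on the fixed points of `P`. -/
def rho : c.N →* Perm {x // x ∈ c.D} :=
  MonoidHom.mk' (fun g => (g : Perm α).subtypePerm (c.stable g.2)) fun g h => by
    ext a; rfl

theorem rho_apply (g : c.N) (a : {x // x ∈ c.D}) :
    ((c.rho g) a : α) = (g : Perm α) a := rfl

theorem rho_surjective : Function.Surjective c.rho := by
  intro σ
  obtain ⟨g, hg, hgn, hσ⟩ := c.ext σ
  exact ⟨⟨g, hg, hgn⟩, Equiv.ext fun a => Subtype.ext (hσ a)⟩

/-- Elements of the normaliser fixing every `P`-orbit. -/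
def L : Subgroup c.N where
  carrier := {g | ∀ a ∉ c.D, ∃ y ∈ c.P, (g : Perm α) a = y a}
  one_mem' := fun a _ => ⟨1, c.P.one_mem, by simp⟩
  mul_mem' := by
    intro g h hg hh a ha
    obtain ⟨y, hy, hy'⟩ := hh a ha
    obtain ⟨z, hz, hz'⟩ := hg a ha
    refine ⟨(g : Perm α) * y * (g : Perm α)⁻¹ * z, c.P.mul_mem (c.conj_mem g.2 hy) hz, ?_⟩
    simp [hy', ← hz']
  inv_mem' := by
    intro g hg a ha
    have hb : (g : Perm α)⁻¹ a ∉ c.D := by
      rw [← c.stable g.2]; simpa using ha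
    obtain ⟨y, hy, hy'⟩ := hg _ hb
    refine ⟨y⁻¹, c.P.inv_mem hy, ?_⟩
    simp only [Subgroup.coe_inv]
    rw [← Perm.mul_apply, mul_inv_cancel, Perm.one_apply] at hy'
    exact (Perm.inv_eq_iff_eq.2 hy').symm

theorem L_normal : c.L.Normal := by
  refine ⟨fun l hl n a ha => ?_⟩
  have hb : (n : Perm α)⁻¹ a ∉ c.D := by
    rw [← c.stable n.2]; simpa using ha
  obtain ⟨y, hy, hy'⟩ := hl _ hb
  refine ⟨(n : Perm α) * y * (n : Perm α)⁻¹, c.conj_mem n.2 hy, ?_⟩
  simp only [Subgroup.coe_mul, Subgroup.coe_inv, Perm.mul_apply, hy']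

/-- Elements fixing every `P`-orbit and centralising `P`. -/
def C : Subgroup c.N := c.L ⊓ (Subgroup.centralizer (c.P : Set (Perm α))).subgroupOf c.N

theorem mem_C {g : c.N} :
    g ∈ c.C ↔ g ∈ c.L ∧ ∀ y ∈ c.P, y * (g : Perm α) = (g : Perm α) * y := by
  simp [C, Subgroup.mem_subgroupOf, Subgroup.mem_centralizer_iff]

/-- Elements trivial off `D`. -/
def K : Subgroup c.N where
  carrier := {g | ∀ a ∉ c.D, (g : Perm α) a = a}
  one_mem' := fun a _ => by simp
  mul_mem' := fun {g h} hg hh a ha => by simp [hh a ha, hg a ha]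
  inv_mem' := fun {g} hg a ha => by
    simp only [Subgroup.coe_inv]
    rw [Perm.inv_eq_iff_eq]
    exact (hg a ha).symm

theorem eq_one_of_K {g : c.N} (hg : g ∈ c.K) (h : c.rho g = 1) : g = 1 := by
  refine Subtype.ext (Equiv.ext fun a => ?_)
  by_cases ha : a ∈ c.D
  · exact congrArg Subtype.val (DFunLike.congr_fun h ⟨a, ha⟩)
  · exact hg a ha

theorem agree {a : α} {y z w : Perm α} (hy : y ∈ c.P) (hz : z ∈ c.P) (hw : w ∈ c.P)
    (h : y a = z a) : y (w a) = z (w a) := by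
  rw [← Perm.mul_apply, c.comm y hy w hw, Perm.mul_apply, h, ← Perm.mul_apply,
    c.comm w hw z hz, Perm.mul_apply]

theorem pow_agree {a : α} {y z : Perm α} (hy : y ∈ c.P) (hz : z ∈ c.P) (h : y a = z a) :
    ∀ i : ℕ, (y ^ i) a = (z ^ i) a
  | 0 => by simp
  | i + 1 => by
    rw [pow_succ', pow_succ', Perm.mul_apply, Perm.mul_apply, pow_agree hy hz h i,
      c.agree hy hz (c.P.pow_mem hz i) h]

theorem conj_agree {l : c.N} (hl : l ∈ c.L) {a : α} (ha : a ∉ c.D) {y z : Perm α}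
    (hy : y ∈ c.P) (hz : z ∈ c.P) (h : y a = z a) :
    ((l : Perm α) * y * (l : Perm α)⁻¹) a = ((l : Perm α) * z * (l : Perm α)⁻¹) a := by
  obtain ⟨w, hw, hw'⟩ := c.L.inv_mem hl a ha
  simp only [Subgroup.coe_inv] at hw'
  simp only [Perm.mul_apply, hw', c.agree hy hz hw h]

theorem exponent {l : c.N} (hl : l ∈ c.L) {a : α} (ha : a ∉ c.D) :
    ∃ e : ℕ, ∀ y ∈ c.P, ((l : Perm α) * y * (l : Perm α)⁻¹) a = (y ^ e) a := by
  obtain ⟨x, hx, hxa⟩ := c.move a ha
  obtain ⟨e, he⟩ := c.gen a x hx hxa _ (c.conj_mem l.2 hx)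
  refine ⟨e, fun y hy => ?_⟩
  obtain ⟨i, hi⟩ := c.gen a x hx hxa y hy
  rw [c.conj_agree hl ha hy (c.P.pow_mem hx i) hi, ← conj_pow,
    c.pow_agree (c.conj_mem l.2 hx) (c.P.pow_mem hx e) he i,
    c.pow_agree hy (c.P.pow_mem hx i) hi e, ← pow_mul, ← pow_mul, mul_comm]

theorem commutator_L_le : ⁅c.L, c.L⁆ ≤ c.C := by
  rw [Subgroup.commutator_le]
  intro g hg h hh
  rw [mem_C]
  refine ⟨?_, ?_⟩
  · exact c.L.mul_mem (c.L.mul_mem (c.L.mul_mem hg hh) (c.L.inv_mem hg)) (c.L.inv_mem hh)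
  have key : ∀ y ∈ c.P, ∀ (u v : c.N), u ∈ c.L → v ∈ c.L → ∀ a ∉ c.D, ∀ e e' : ℕ,
      (∀ z ∈ c.P, ((u : Perm α) * z * (u : Perm α)⁻¹) a = (z ^ e) a) →
      (∀ z ∈ c.P, ((v : Perm α) * z * (v : Perm α)⁻¹) a = (z ^ e') a) →
      (((u : Perm α) * v) * y * ((u : Perm α) * v)⁻¹) a = (y ^ (e * e')) a := by
    intro y hy u v hu hv a ha e e' he he'
    have h1 : ((u : Perm α) * v) * y * ((u : Perm α) * v)⁻¹
        = (u : Perm α) * ((v : Perm α) * y * (v : Perm α)⁻¹) * (u : Perm α)⁻¹ := by group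
    rw [h1, c.conj_agree hu ha (c.conj_mem v.2 hy) (c.P.pow_mem hy e') (he' y hy),
      he _ (c.P.pow_mem hy e'), ← pow_mul, mul_comm]
  have eqv : ∀ y ∈ c.P, ((g : Perm α) * h) * y * ((g : Perm α) * h)⁻¹
      = ((h : Perm α) * g) * y * ((h : Perm α) * g)⁻¹ := by
    intro y hy
    refine Equiv.ext fun a => ?_
    by_cases ha : a ∈ c.D
    · rw [c.fix _ (c.conj_mem (c.N.mul_mem g.2 h.2) hy) a ha,
        c.fix _ (c.conj_mem (c.N.mul_mem h.2 g.2) hy) a ha]
    obtain ⟨e, he⟩ := c.exponent hg ha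
    obtain ⟨e', he'⟩ := c.exponent hh ha
    rw [key y hy g h hg hh a ha e e' he he', key y hy h g hh hg a ha e' e he' he, mul_comm e]
  intro y hy
  have := eqv (((h : Perm α) * g)⁻¹ * y * ((h : Perm α) * g))
    (c.conj_mem' (c.N.mul_mem h.2 g.2) hy)
  simp only [commutatorElement_def, Subgroup.coe_mul, Subgroup.coe_inv]
  calc y * ((g : Perm α) * h * (g : Perm α)⁻¹ * (h : Perm α)⁻¹)
      = ((h : Perm α) * g * (((h : Perm α) * g)⁻¹ * y * ((h : Perm α) * g)) *
          ((h : Perm α) * g)⁻¹) * ((g : Perm α) * h * (g : Perm α)⁻¹ * (h : Perm α)⁻¹) := by group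
    _ = ((g : Perm α) * h * (((h : Perm α) * g)⁻¹ * y * ((h : Perm α) * g)) *
          ((g : Perm α) * h)⁻¹) * ((g : Perm α) * h * (g : Perm α)⁻¹ * (h : Perm α)⁻¹) := by
        rw [this]
    _ = _ := by group

theorem commutator_C_le : ⁅c.C, c.C⁆ ≤ c.K := by
  rw [Subgroup.commutator_le]
  intro g hg h hh a ha
  obtain ⟨hgL, hgc⟩ := c.mem_C.1 hg
  obtain ⟨hhL, hhc⟩ := c.mem_C.1 hh
  have key : ∀ b ∉ c.D, ((g : Perm α) * h) b = ((h : Perm α) * g) b := by
    intro b hb
    obtain ⟨y, hy, hy'⟩ := hgL b hb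
    obtain ⟨z, hz, hz'⟩ := hhL b hb
    rw [Perm.mul_apply, Perm.mul_apply, hz', ← Perm.mul_apply, ← hgc z hz, Perm.mul_apply, hy',
      ← Perm.mul_apply (h : Perm α), ← hhc y hy, Perm.mul_apply, hz', ← Perm.mul_apply,
      c.comm z hz y hy, Perm.mul_apply]
  have hb : (((h : Perm α) * g)⁻¹) a ∉ c.D := by
    rw [← c.stable (c.N.mul_mem h.2 g.2), ← Perm.mul_apply ((h : Perm α) * (g : Perm α)),
      mul_inv_cancel, Perm.one_apply]
    exact ha
  have := key _ hb
  simp only [commutatorElement_def, Subgroup.coe_mul, Subgroup.coe_inv]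
  rw [show (g : Perm α) * h * (g : Perm α)⁻¹ * (h : Perm α)⁻¹
      = ((g : Perm α) * h) * ((h : Perm α) * g)⁻¹ by group, Perm.mul_apply, this,
    ← Perm.mul_apply ((h : Perm α) * (g : Perm α)), mul_inv_cancel, Perm.one_apply]

theorem pow_mem_K {g : c.N} (hg : g ∈ c.C) : g ^ p ∈ c.K := by
  intro a ha
  obtain ⟨hgL, hgc⟩ := c.mem_C.1 hg
  obtain ⟨y, hy, hy'⟩ := hgL a ha
  have key : ∀ i : ℕ, ((g : Perm α) ^ i) a = (y ^ i) a := by
    intro i
    induction i with
    | zero => simp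
    | succ i ih =>
      rw [pow_succ', Perm.mul_apply, ih, ← Perm.mul_apply, ← hgc _ (c.P.pow_mem hy i),
        Perm.mul_apply, hy', ← Perm.mul_apply, ← pow_succ]
  simp only [Subgroup.coe_pow]
  rw [key p, c.pow y hy, Perm.one_apply]

include c in
theorem exists_L_ne_one (hk : 1 ≤ k) (hkr : k < r) : ∃ l ∈ c.L, c.rho l ≠ 1 := by
  classical
  by_contra h
  push Not at h
  have hle : c.L ≤ c.rho.ker := fun l hl => h l hl
  let O : Finset (Set α) := (c.Dᶜ).image fun a => orbit c.P a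
  have hO : O.card = k := by
    have h1 := Finset.card_eq_sum_card_image (fun a => orbit c.P a) c.Dᶜ
    rw [Finset.sum_const_nat (m := p)] at h1
    · rw [Finset.card_compl, c.hD, c.hn, Nat.add_sub_cancel] at h1
      exact (Nat.eq_of_mul_eq_mul_right c.hp.pos h1).symm
    · intro o ho
      obtain ⟨a, ha, rfl⟩ := Finset.mem_image.1 ho
      rw [Finset.mem_compl] at ha
      rw [← Set.ncard_coe_finset]
      refine Eq.trans ?_ (c.orb_card a ha)
      congr 1
      ext b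
      simp only [Finset.coe_filter, Finset.mem_compl, Set.mem_setOf_eq]
      constructor
      · rintro ⟨-, hb⟩
        rw [← hb]; exact mem_orbit_self b
      · intro hb
        refine ⟨?_, orbit_eq_iff.2 hb⟩
        obtain ⟨y, rfl⟩ := hb
        intro hD'
        exact ha ((y.1.injective (c.fix y.1 y.2 _ hD')).symm ▸ hD')
  have horb : ∀ (g : c.N) (a : α), (g : Perm α) '' orbit c.P a = orbit c.P ((g : Perm α) a) := by
    intro g a
    ext b
    constructor
    · rintro ⟨_, ⟨y, rfl⟩, rfl⟩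
      refine ⟨⟨_, c.conj_mem g.2 y.2⟩, ?_⟩
      simp [Subgroup.smul_def]
    · rintro ⟨y, rfl⟩
      refine ⟨_, ⟨⟨_, c.conj_mem' g.2 y.2⟩, rfl⟩, ?_⟩
      simp [Subgroup.smul_def]
  have hmap : ∀ (g : c.N), ∀ o ∈ O, (g : Perm α) '' o ∈ O := by
    intro g o ho
    obtain ⟨a, ha, rfl⟩ := Finset.mem_image.1 ho
    rw [horb g a]
    refine Finset.mem_image.2 ⟨_, ?_, rfl⟩
    rw [Finset.mem_compl] at ha ⊢
    rwa [c.stable g.2]
  let φ : c.N ⧸ c.L → ({o // o ∈ O} ↪ {o // o ∈ O}) := fun q =>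
    ⟨fun o => ⟨(q.out : Perm α) '' o.1, hmap q.out o.1 o.2⟩, fun o o' he =>
      Subtype.ext ((Set.image_injective.2 (Equiv.injective _)) (congrArg Subtype.val he))⟩
  have hφ : Function.Injective φ := by
    intro q q' he
    rw [← QuotientGroup.out_eq' q, ← QuotientGroup.out_eq' q', QuotientGroup.eq]
    intro a ha
    have h1 := congrArg Subtype.val (DFunLike.congr_fun he
      ⟨orbit c.P a, Finset.mem_image.2 ⟨a, Finset.mem_compl.2 ha, rfl⟩⟩)
    change (q.out : Perm α) '' orbit c.P a = (q'.out : Perm α) '' orbit c.P a at h1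
    rw [horb, horb] at h1
    obtain ⟨y, hy⟩ := orbit_eq_iff.1 h1.symm
    refine ⟨(q.out : Perm α)⁻¹ * y.1 * (q.out : Perm α), c.conj_mem' q.out.2 y.2, ?_⟩
    simp only [Subgroup.smul_def, Perm.smul_def] at hy
    simp [hy]
  have h1 := Nat.card_le_card_of_injective φ hφ
  rw [Nat.card_eq_fintype_card (α := _ ↪ _), Fintype.card_embedding_eq, Fintype.card_coe, hO,
    Nat.descFactorial_self, ← Subgroup.index] at h1
  have h2 := Subgroup.index_dvd_of_le hle
  rw [Subgroup.index_ker, MonoidHom.range_eq_top.2 c.rho_surjective, Subgroup.card_top,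
    Nat.card_perm, Nat.card_eq_fintype_card, Fintype.card_coe, c.hD] at h2
  have h3 := Nat.le_of_dvd (Nat.pos_of_ne_zero Subgroup.index_ne_zero_of_finite) h2
  have h4 : k.factorial < r.factorial := (Nat.factorial_lt hk).2 hkr
  omega

theorem scalar (hbig : ∀ y ∈ c.P, y ≠ 1 → k * p < 2 * y.support.card) {l : c.N} (hl : l ∈ c.L)
    {n : c.N} : ⁅n, l⁆ ∈ c.C := by
  classical
  have hsub : ∀ y ∈ c.P, y.support ⊆ c.Dᶜ := fun y hy a ha =>
    Finset.mem_compl.2 (c.not_mem_of_moved hy (Perm.mem_support.1 ha))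
  have hmin : ∀ a ∉ c.D, ∃ x ∈ c.P, x a ≠ a ∧
      ∀ y ∈ c.P, y ≠ 1 → y.support ⊆ x.support → x.support ⊆ y.support := by
    intro a ha
    obtain ⟨x, hx, hmx⟩ := Finset.exists_min_image
      (Finset.univ.filter fun y : Perm α => y ∈ c.P ∧ y a ≠ a) (fun y => y.support.card)
      (by obtain ⟨y, hy, hy'⟩ := c.move a ha; exact ⟨y, by simp [hy, hy']⟩)
    simp only [Finset.mem_filter, Finset.mem_univ, true_and] at hx hmx
    refine ⟨x, hx.1, hx.2, fun y hy hy1 hys => ?_⟩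
    by_cases hya : y a = a
    · exfalso
      obtain ⟨b, hb⟩ : y.support.Nonempty := by
        rw [Finset.nonempty_iff_ne_empty, Ne, Perm.support_eq_empty_iff]; exact hy1
      obtain ⟨j, hj⟩ := c.gen b y hy (Perm.mem_support.1 hb) x hx.1
      let z := (y ^ j)⁻¹ * x
      have hz : z ∈ c.P := c.P.mul_mem (c.P.inv_mem (c.P.pow_mem hy j)) hx.1
      have hzb : z b = b := by
        rw [show z b = (y ^ j)⁻¹ (x b) from rfl, hj, ← Perm.mul_apply, inv_mul_cancel,
          Perm.one_apply]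
      have hza : z a ≠ a := by
        intro h
        rw [show z a = (y ^ j)⁻¹ (x a) from rfl, Perm.inv_eq_iff_eq,
          Perm.pow_apply_eq_self_of_apply_eq_self hya j] at h
        exact hx.2 h
      have hzs : z.support ⊂ x.support := by
        refine (Finset.ssubset_iff_of_subset fun d hd => ?_).2
          ⟨b, hys hb, Perm.notMem_support.2 hzb⟩
        by_contra hxd
        have hyd : y d = d := Perm.notMem_support.1 fun h => hxd (hys h)
        rw [Perm.mem_support, show z d = (y ^ j)⁻¹ (x d) from rfl,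
          Perm.notMem_support.1 hxd] at hd
        exact hd (Perm.inv_eq_iff_eq.2 (Perm.pow_apply_eq_self_of_apply_eq_self hyd j).symm)
      exact absurd (Finset.card_lt_card hzs) (not_lt.2 (hmx z ⟨hz, hza⟩))
    · exact (Finset.eq_of_subset_of_card_le hys (hmx y ⟨hy, hya⟩)).ge
  have hscal : ∃ e : ℕ, ∀ y ∈ c.P, (l : Perm α) * y * (l : Perm α)⁻¹ = y ^ e := by
    rcases Finset.eq_empty_or_nonempty (c.Dᶜ) with h0 | ⟨a₀, ha₀⟩
    · refine ⟨0, fun y hy => Equiv.ext fun a => ?_⟩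
      have ha : a ∈ c.D := by
        by_contra ha
        exact Finset.notMem_empty a (h0 ▸ Finset.mem_compl.2 ha)
      rw [pow_zero, Perm.one_apply, c.fix _ (c.conj_mem l.2 hy) a ha]
    rw [Finset.mem_compl] at ha₀
    obtain ⟨x₀, hx₀, hx₀a, hm₀⟩ := hmin a₀ ha₀
    have supp : ∀ x ∈ c.P, ((l : Perm α) * x * (l : Perm α)⁻¹).support ⊆ x.support := by
      intro x hx d hd
      by_contra hxd
      have hd' := c.not_mem_of_moved (c.conj_mem l.2 hx) (Perm.mem_support.1 hd)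
      have := c.conj_agree hl hd' hx c.P.one_mem (Perm.notMem_support.1 hxd)
      rw [mul_one, mul_inv_cancel, Perm.one_apply] at this
      exact Perm.mem_support.1 hd this
    have pin : ∀ x ∈ c.P, (∀ y ∈ c.P, y ≠ 1 → y.support ⊆ x.support → x.support ⊆ y.support) →
        ∀ b, x b ≠ b → ∀ e : ℕ, ((l : Perm α) * x * (l : Perm α)⁻¹) b = (x ^ e) b →
        (l : Perm α) * x * (l : Perm α)⁻¹ = x ^ e := by
      intro x hx hm b hb e he
      by_contra hne
      set u := (x ^ e)⁻¹ * ((l : Perm α) * x * (l : Perm α)⁻¹) with hu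
      have huP : u ∈ c.P := c.P.mul_mem (c.P.inv_mem (c.P.pow_mem hx e)) (c.conj_mem l.2 hx)
      have hus : u.support ⊆ x.support := by
        intro d hd
        by_contra hxd
        have h1 : ((l : Perm α) * x * (l : Perm α)⁻¹) d = d :=
          Perm.notMem_support.1 fun h => hxd (supp x hx h)
        have h2 : (x ^ e) d = d :=
          Perm.pow_apply_eq_self_of_apply_eq_self (Perm.notMem_support.1 hxd) e
        rw [Perm.mem_support, hu, Perm.mul_apply, h1] at hd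
        exact hd (Perm.inv_eq_iff_eq.2 h2.symm)
      have := hm u huP (fun h => hne (inv_mul_eq_one.1 h).symm) hus (Perm.mem_support.2 hb)
      rw [Perm.mem_support, hu, Perm.mul_apply, he, ← Perm.mul_apply, inv_mul_cancel,
        Perm.one_apply] at this
      exact this rfl
    obtain ⟨e, he⟩ := c.gen a₀ x₀ hx₀ hx₀a _ (c.conj_mem l.2 hx₀)
    have he₀ := pin x₀ hx₀ hm₀ a₀ hx₀a e he
    refine ⟨e, fun y hy => Equiv.ext fun a => ?_⟩
    by_cases ha : a ∈ c.D
    · rw [c.fix _ (c.conj_mem l.2 hy) a ha, c.fix _ (c.P.pow_mem hy e) a ha]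
    obtain ⟨x, hx, hxa, hm⟩ := hmin a ha
    have hxe : (l : Perm α) * x * (l : Perm α)⁻¹ = x ^ e := by
      obtain ⟨d, hd⟩ : (x.support ∩ x₀.support).Nonempty := by
        rw [Finset.nonempty_iff_ne_empty]
        intro h
        have h1 : x ≠ 1 := fun h => hxa (by rw [h, Perm.one_apply])
        have h2 : x₀ ≠ 1 := fun h => hx₀a (by rw [h, Perm.one_apply])
        have h3 := Finset.card_le_card (Finset.union_subset (hsub x hx) (hsub x₀ hx₀))
        rw [Finset.card_union_of_disjoint (Finset.disjoint_iff_inter_eq_empty.2 h),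
          Finset.card_compl, c.hD, c.hn] at h3
        have := hbig x hx h1
        have := hbig x₀ hx₀ h2
        omega
      rw [Finset.mem_inter, Perm.mem_support, Perm.mem_support] at hd
      obtain ⟨j, hj⟩ := c.gen d x₀ hx₀ hd.2 x hx
      refine pin x hx hm d hd.1 e ?_
      rw [c.conj_agree hl (c.not_mem_of_moved hx hd.1) hx (c.P.pow_mem hx₀ j) hj, ← conj_pow,
        he₀, c.pow_agree hx (c.P.pow_mem hx₀ j) hj e, ← pow_mul, ← pow_mul, mul_comm]
    obtain ⟨i, hi⟩ := c.gen a x hx hxa y hy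
    rw [c.conj_agree hl ha hy (c.P.pow_mem hx i) hi, ← conj_pow, hxe,
      c.pow_agree hy (c.P.pow_mem hx i) hi e, ← pow_mul, ← pow_mul, mul_comm]
  obtain ⟨e, he⟩ := hscal
  rw [mem_C]
  refine ⟨?_, fun y hy => ?_⟩
  · rw [commutatorElement_def]
    exact c.L.mul_mem (c.L_normal.conj_mem l hl n) (c.L.inv_mem hl)
  set z := (l : Perm α)⁻¹ * y * (l : Perm α) with hz
  have hzP : z ∈ c.P := c.conj_mem' l.2 hy
  have h1 := he _ (c.conj_mem' n.2 hzP)
  have h2 : (n : Perm α) * ((n : Perm α)⁻¹ * z * (n : Perm α)) ^ e * (n : Perm α)⁻¹ = z ^ e := by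
    rw [← conj_pow]; congr 1; group
  have h3 : z ^ e = y := by rw [← he z hzP, hz]; group
  simp only [commutatorElement_def, Subgroup.coe_mul, Subgroup.coe_inv]
  conv_lhs => rw [← h3, ← h2, ← h1]
  rw [hz]
  group

end Cfg

end Cfsg.Agent.Manning
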